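import Cfsg.Agent.OrthMono.Maximal
import Cfsg.Agent.OrthMax.DecompTools

/-!
# Thirty-two involutions in `Ω₆` are the even sign changes of a frame

A group of at least 32 involutions of `Ω` in dimension six has a common eigenbasis, consists of all even
sign changes of it, and its normaliser permutes the lines of the basis, which are isometric.
-/

set_option autoImplicit false
set_option linter.unusedSectionVars false

namespace CfsgLib.SLFour

open Matrix Module Cfsg.Geo CfsgLib.Spinor CfsgLib.Forms CfsgLib.OrthMax CfsgLib.OrthMono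

variable {F : Type*} [Field F] {ι : Type} [Fintype ι] [DecidableEq ι] {Q : QuadraticForm F (ι → F)}

/-- Every vector is a combination of common eigenvectors of finitely many commuting involutions. -/
theorem mem_span_eigen (h2 : (2 : F) ≠ 0) (s : Finset (Isom Q)) (hsq : ∀ e ∈ s, e * e = 1)
    (hc : ∀ a ∈ s, ∀ b ∈ s, a * b = b * a) (v : ι → F) :
    v ∈ Submodule.span F {w | ∀ e ∈ s, ap e w = w ∨ ap e w = -w} := by
  classical
  induction s using Finset.induction_on generalizing v with
  | empty => exact Submodule.subset_span fun e he => absurd he (Finset.notMem_empty e)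
  | insert a s ha ih =>
    refine Submodule.span_le.2 ?_
      (ih (fun e he => hsq e (Finset.mem_insert_of_mem he))
        (fun e he e' he' => hc e (Finset.mem_insert_of_mem he) e' (Finset.mem_insert_of_mem he')) v)
    intro w hw
    have haa : ap a (ap a w) = w := by rw [← ap_mul, hsq a (Finset.mem_insert_self a s), ap_one]
    have hcom : ∀ e ∈ s, ap e (ap a w) = ap a (ap e w) := fun e he => by
      rw [← ap_mul, ← ap_mul, hc e (Finset.mem_insert_of_mem he) a (Finset.mem_insert_self a s)]
    have hp : ∀ r : F, (r = 1 ∨ r = -1) → w + r • ap a w ∈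
        Submodule.span F {w | ∀ e ∈ insert a s, ap e w = w ∨ ap e w = -w} := by
      refine fun r hr => Submodule.subset_span fun e he => ?_
      rcases Finset.mem_insert.1 he with rfl | he'
      · rw [map_add, map_smul, haa]
        rcases hr with rfl | rfl
        · exact Or.inl (by module)
        · exact Or.inr (by module)
      · rw [map_add, map_smul, hcom e he']
        rcases hw e he' with h | h <;> rw [h]
        · exact Or.inl rfl
        · exact Or.inr (by rw [map_neg]; module)
    have hw' : w = (2 : F)⁻¹ • ((w + (1 : F) • ap a w) + (w + (-1 : F) • ap a w)) := by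
      match_scalars <;> field_simp <;> ring
    rw [SetLike.mem_coe, hw']
    exact Submodule.smul_mem _ _ (Submodule.add_mem _ (hp 1 (Or.inl rfl)) (hp (-1) (Or.inr rfl)))

variable [Fintype F]

/-- A group of 32 involutions in `Ω` in dimension six gives a frame of isometric lines. -/
theorem exists_frame_of_involutions (hnd : (QuadraticMap.polarBilin Q).Nondegenerate) (h2 : (2 : F) ≠ 0)
    (h6 : Fintype.card ι = 6) {E : Subgroup (Isom Q)} (hsq : ∀ e ∈ E, e * e = 1)
    (hΩ : ∀ e ∈ E, e ∈ Cfsg.Omega F ⇑Q) (hcard : 32 ≤ Nat.card E) :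
    ∃ D : Fin 6 → Submodule F (ι → F), DSys Q 1 D ∧
      ∀ g : Isom Q, (g : GL ι F) ∈ decompositionStabilizer D ↔ ∀ e ∈ E, g * e * g⁻¹ ∈ E := by
  classical
  haveI : Fintype E := Fintype.ofFinite _
  have hinv : ∀ e ∈ E, e⁻¹ = e := fun e he => inv_eq_of_mul_eq_one_right (hsq e he)
  have hc : ∀ a ∈ E, ∀ b ∈ E, a * b = b * a := fun a ha b hb => by
    rw [← hinv (a * b) (E.mul_mem ha hb), _root_.mul_inv_rev, hinv a ha, hinv b hb]
  set W : Set (ι → F) := {w | ∀ e ∈ (E : Set (Isom Q)).toFinset, ap e w = w ∨ ap e w = -w} with hWdef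
  have hW : Submodule.span F W = ⊤ := Submodule.eq_top_iff'.2 fun v =>
    mem_span_eigen h2 _ (fun e he => hsq e (by simpa using he))
      (fun a ha b hb => hc a (by simpa using ha) b (by simpa using hb)) v
  obtain ⟨w, hwW, hspan, hli⟩ := exists_linearIndependent F W
  haveI : Finite w := hli.finite
  haveI : Fintype w := Fintype.ofFinite _
  have hspan' : Submodule.span F w = ⊤ := hspan.trans hW
  have hB : ⊤ ≤ Submodule.span F (Set.range ((↑) : w → ι → F)) := by
    rw [Subtype.range_coe, hspan']
  have hcw : Fintype.card w = 6 := by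
    rw [← finrank_eq_card_basis (Basis.mk hli hB), finrank_fintype_fun_eq_card, h6]
  obtain ⟨B, hBmem⟩ : ∃ B : Basis (Fin 6) F (ι → F),
      ∀ i, ∀ e ∈ E, ap e (B i) = B i ∨ ap e (B i) = -B i := by
    refine ⟨(Basis.mk hli hB).reindex (Fintype.equivFinOfCardEq hcw), fun i e he => ?_⟩
    rw [Basis.reindex_apply, Basis.mk_apply]
    exact hwW (Subtype.coe_prop _) e (by simpa using he)
  have hB0 : ∀ i, B i ≠ 0 := fun i => B.ne_zero i
  have hpm : ∀ i, ¬ (B i = -B i) := fun i h => hB0 i (by
    rw [eq_neg_iff_add_eq_zero, ← two_smul F, smul_eq_zero] at h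
    exact h.resolve_left h2)
  have hext : ∀ g g' : Isom Q, (∀ i, ap g (B i) = ap g' (B i)) → g = g' := fun g g' h =>
    ext_ap fun x => LinearMap.congr_fun (B.ext h) x
  -- the sign vectors
  obtain ⟨σ, hσdef⟩ : ∃ σ : Isom Q → Finset (Fin 6),
      ∀ e i, i ∈ σ e ↔ ap e (B i) = -B i :=
    ⟨fun e => Finset.univ.filter fun i => ap e (B i) = -B i, fun e i => by simp⟩
  have hσ1 : ∀ e ∈ E, ∀ i, i ∉ σ e → ap e (B i) = B i := fun e he i hi =>
    (hBmem i e he).resolve_right fun h => hi ((hσdef e i).2 h)
  have hinj : Function.Injective fun e : E => σ e.1 := fun e e' h => by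
    refine Subtype.ext (hext _ _ fun i => ?_)
    replace h : σ e.1 = σ e'.1 := h
    by_cases hi : i ∈ σ e.1
    · rw [(hσdef _ i).1 hi, (hσdef _ i).1 (h ▸ hi)]
    · rw [hσ1 _ e.2 i hi, hσ1 _ e'.2 i (h ▸ hi)]
  have heven : ∀ g ∈ Cfsg.Omega F ⇑Q, ∀ s : Finset (Fin 6), (∀ i ∈ s, ap g (B i) = -B i) →
      (∀ i, i ∉ s → ap g (B i) = B i) → Even s.card := by
    intro g hg s hs1 hs2
    have hd := det_of_omega hg
    rw [← LinearMap.det_toLin', ← LinearMap.det_toMatrix B] at hd
    have hM : LinearMap.toMatrix B B (Matrix.toLin' (mat Q g)) =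
        Matrix.diagonal fun i => if i ∈ s then (-1 : F) else 1 := by
      ext i j
      rw [LinearMap.toMatrix_apply, ← show ap g = Matrix.toLin' (mat Q g) from rfl]
      by_cases hj : j ∈ s
      · rw [hs1 j hj, map_neg, Finsupp.neg_apply, B.repr_self, Matrix.diagonal_apply,
          Finsupp.single_apply]
        rcases eq_or_ne i j with rfl | hij
        · simp [hj]
        · simp [hij, hij.symm]
      · rw [hs2 j hj, B.repr_self, Matrix.diagonal_apply, Finsupp.single_apply]
        rcases eq_or_ne i j with rfl | hij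
        · simp [hj]
        · simp [hij, hij.symm]
    rw [hM, Matrix.det_diagonal, Finset.prod_ite_mem, Finset.univ_inter, Finset.prod_const] at hd
    by_contra hodd
    rw [Nat.not_even_iff_odd] at hodd
    rw [hodd.neg_one_pow] at hd
    exact h2 (by linear_combination -hd)
  have hsurj : ∀ s : Finset (Fin 6), Even s.card →
      ∃ e ∈ E, (∀ i ∈ s, ap e (B i) = -B i) ∧ ∀ i, i ∉ s → ap e (B i) = B i := by
    intro s hs
    have himg : Finset.univ.image (fun e : E => σ e.1) =
        (Finset.univ : Finset (Finset (Fin 6))).filter fun s => Even s.card := by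
      refine Finset.eq_of_subset_of_card_le (fun t ht => ?_) ?_
      · obtain ⟨e, -, rfl⟩ := Finset.mem_image.1 ht
        rw [Finset.mem_filter]
        exact ⟨Finset.mem_univ _, heven e.1 (hΩ _ e.2) _ (fun i hi => (hσdef _ i).1 hi)
          (hσ1 _ e.2)⟩
      · rw [Finset.card_image_of_injective _ hinj, Finset.card_univ, ← Nat.card_eq_fintype_card]
        exact le_trans (by decide) hcard
    obtain ⟨e, -, he⟩ := Finset.mem_image.1
      (show s ∈ Finset.univ.image (fun e : E => σ e.1) by rw [himg]; simp [hs])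
    subst he
    exact ⟨e.1, e.2, fun i hi => (hσdef _ i).1 hi, hσ1 _ e.2⟩
  have hpair : ∀ i j : Fin 6, i ≠ j →
      ∃ e ∈ E, ap e (B i) = -B i ∧ ap e (B j) = -B j ∧ ∀ l, l ≠ i → l ≠ j → ap e (B l) = B l := by
    intro i j hij
    obtain ⟨e, he, h1, h1'⟩ := hsurj {i, j} (by rw [Finset.card_pair hij]; decide)
    exact ⟨e, he, h1 i (by simp), h1 j (by simp), fun l hli hlj => h1' l (by simp [hli, hlj])⟩
  have hthird : ∀ i j : Fin 6, ∃ l, l ≠ i ∧ l ≠ j := by decide
  have horth : ∀ i j, i ≠ j → QuadraticMap.polar (⇑Q) (B i) (B j) = 0 := by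
    intro i j hij
    obtain ⟨l, hli, hlj⟩ := hthird i j
    obtain ⟨e, -, hei, -, hej⟩ := hpair i l hli.symm
    have h := polar_ap e (B i) (B j)
    rw [hei, hej j hij.symm hlj.symm, QuadraticMap.polar_neg_left] at h
    exact (mul_eq_zero.1
      (by linear_combination -h : (2 : F) * QuadraticMap.polar (⇑Q) (B i) (B j) = 0)).resolve_left h2
  have hq : ∀ i, Q (B i) ≠ 0 := by
    intro i h0
    refine hB0 i (hnd.1 (B i) fun y => ?_)
    rw [← B.sum_repr y, map_sum]
    refine Finset.sum_eq_zero fun j _ => ?_
    rw [map_smul, QuadraticMap.polarBilin_apply_apply]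
    rcases eq_or_ne i j with rfl | hij
    · rw [QuadraticMap.polar_self, h0, smul_zero, smul_zero]
    · rw [horth i j hij, smul_zero]
  have hsquare : ∀ i j, i ≠ j → IsSquare (Q (B i) * Q (B j)) := by
    intro i j hij
    obtain ⟨e, he, hei, hej, hel⟩ := hpair i j hij
    have heq : e = rf (B i) * rf (B j) := by
      refine hext _ _ fun l => ?_
      rw [ap_mul]
      rcases eq_or_ne l i with rfl | hli
      · rw [hei, ap_rf (hq j), horth j l hij.symm, mul_zero, zero_smul, sub_zero, ap_rf_self (hq l)]
      rcases eq_or_ne l j with rfl | hlj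
      · rw [hej, ap_rf_self (hq l), map_neg, ap_rf (hq i), horth i l hij, mul_zero, zero_smul, sub_zero]
      · rw [hel l hli hlj, ap_rf (hq j), horth j l (Ne.symm hlj), mul_zero, zero_smul, sub_zero,
          ap_rf (hq i), horth i l (Ne.symm hli), mul_zero, zero_smul, sub_zero]
    have h := hΩ e he
    rw [heq, rf_eq (hq i), rf_eq (hq j)] at h
    have := ((mem_omega_iff h2 hnd
      ((IsReflProd.reflIso (B i) (hq i)).mul (IsReflProd.reflIso (B j) (hq j)))).1 h).2
    simpa using this
  refine ⟨fun i => Submodule.span F {B i}, ⟨hnd, by norm_num, fun i => finrank_span_singleton (hB0 i),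
    fun i z hz hzero => ?_, fun i j hij x hx y hy => ?_, ?_, fun i j => ?_⟩, fun g => ?_⟩
  · obtain ⟨c, rfl⟩ := Submodule.mem_span_singleton.1 hz
    have h := hzero (B i) (Submodule.mem_span_singleton_self _)
    rw [QuadraticMap.polar_smul_right, QuadraticMap.polar_self, smul_eq_mul, nsmul_eq_mul,
      mul_eq_zero] at h
    rw [h.resolve_right (mul_ne_zero (by simpa using h2) (hq i)), zero_smul]
  · obtain ⟨c, rfl⟩ := Submodule.mem_span_singleton.1 hx
    obtain ⟨d, rfl⟩ := Submodule.mem_span_singleton.1 hy
    rw [QuadraticMap.polar_smul_left, QuadraticMap.polar_smul_right, horth i j hij, smul_zero, smul_zero]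
  · rw [← Submodule.span_range_eq_iSup, B.span_eq]
  · rcases eq_or_ne i j with rfl | hij
    · exact ⟨LinearEquiv.refl F _, fun w => rfl⟩
    obtain ⟨r, hr⟩ := hsquare i j hij
    have hr0 : r ≠ 0 := fun h => mul_ne_zero (hq i) (hq j) (by rw [hr, h, mul_zero])
    have ha : Q (B i) / r ≠ 0 := div_ne_zero (hq i) hr0
    have hj0 : (Q (B i) / r) • B j ≠ 0 := smul_ne_zero ha (hB0 j)
    refine ⟨(LinearEquiv.toSpanNonzeroSingleton F _ (B i) (hB0 i)).symm ≪≫ₗ
      LinearEquiv.toSpanNonzeroSingleton F _ ((Q (B i) / r) • B j) hj0 ≪≫ₗ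
      LinearEquiv.ofEq _ _ (Submodule.span_singleton_smul_eq (isUnit_iff_ne_zero.2 ha) _), fun w => ?_⟩
    obtain ⟨c, rfl⟩ := (LinearEquiv.toSpanNonzeroSingleton F _ (B i) (hB0 i)).surjective w
    rw [LinearEquiv.trans_apply, LinearEquiv.trans_apply, LinearEquiv.symm_apply_apply,
      LinearEquiv.coe_ofEq_apply, LinearEquiv.toSpanNonzeroSingleton_apply,
      LinearEquiv.toSpanNonzeroSingleton_apply]
    show Q (c • (Q (B i) / r) • B j) = Q (c • B i)
    rw [smul_smul, QuadraticMap.map_smul, QuadraticMap.map_smul]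
    simp only [smul_eq_mul]
    field_simp
    linear_combination (c ^ 2 * Q (B i)) * hr
  constructor
  · rintro ⟨π, hπ⟩ e he
    have hgB : ∀ i, ∃ a : F, ap g (B i) = a • B (π i) := fun i => by
      have h : ap g (B i) ∈ Submodule.span F {B (π i)} := by
        rw [show Submodule.span F {B (π i)} = _ from (hπ i).symm]
        exact Submodule.mem_map_of_mem (Submodule.mem_span_singleton_self _)
      obtain ⟨a, ha⟩ := Submodule.mem_span_singleton.1 h
      exact ⟨a, ha.symm⟩
    have hval : ∀ i, ap (g * e * g⁻¹) (B (π i)) = if i ∈ σ e then -B (π i) else B (π i) := by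
      intro i
      obtain ⟨a, ha⟩ := hgB i
      have ha0 : a ≠ 0 := fun h => hB0 i (ap_injective g (by rw [ha, h, zero_smul, map_zero]))
      have hBi : B (π i) = a⁻¹ • ap g (B i) := by rw [ha, inv_smul_smul₀ ha0]
      conv_lhs => rw [hBi]
      rw [map_smul, ap_mul, ap_mul, ap_inv_ap]
      split_ifs with hi
      · rw [(hσdef e i).1 hi, map_neg, smul_neg, ← hBi]
      · rw [hσ1 e he i hi, ← hBi]
    obtain ⟨e', he', h1, h1'⟩ := hsurj ((σ e).map π.toEmbedding) (by
      rw [Finset.card_map]
      exact heven e (hΩ e he) _ (fun i hi => (hσdef _ i).1 hi) (hσ1 e he))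
    have : g * e * g⁻¹ = e' := hext _ _ fun j => by
      obtain ⟨i, rfl⟩ := π.surjective j
      rw [hval]
      split_ifs with hi
      · rw [h1 (π i) (by simpa using hi)]
      · rw [h1' (π i) (by simpa using hi)]
    rwa [this]
  · intro hg
    refine mem_decompositionStabilizer_of_maps (fun i j e => ?_) (fun i => finrank_span_singleton (hB0 i))
      fun i => ?_
    · by_contra hij
      have h : B i ∈ Submodule.span F {B j} := by
        rw [← show Submodule.span F {B i} = Submodule.span F {B j} from e]
        exact Submodule.mem_span_singleton_self _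
      obtain ⟨c, hc'⟩ := Submodule.mem_span_singleton.1 h
      have h3 := congrArg (fun v => B.repr v i) hc'
      simp [Ne.symm hij] at h3
    let cj : E → E := fun e => ⟨g * e * g⁻¹, hg e e.2⟩
    have hcj : Function.Surjective cj := Finite.surjective_of_injective fun a b h =>
      Subtype.ext (mul_left_cancel (mul_right_cancel (congrArg Subtype.val h)))
    have heig : ∀ e ∈ E, ap e (ap g (B i)) = ap g (B i) ∨ ap e (ap g (B i)) = -ap g (B i) := by
      intro e he
      obtain ⟨⟨e₀, he₀⟩, h0⟩ := hcj ⟨e, he⟩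
      have h0' : g * e₀ = e * g := by
        have := congrArg Subtype.val h0
        simp only [cj] at this
        rw [← this, inv_mul_cancel_right]
      rw [← ap_mul, ← h0', ap_mul]
      rcases hBmem i e₀ he₀ with h | h <;> rw [h]
      · exact Or.inl rfl
      · exact Or.inr (map_neg _ _)
    obtain ⟨j, hj⟩ : ∃ j, B.repr (ap g (B i)) j ≠ 0 := by
      by_contra h
      push Not at h
      have h0 : B.repr (ap g (B i)) = 0 := Finsupp.ext h
      rw [map_eq_zero_iff _ B.repr.injective] at h0
      exact hB0 i (ap_injective g (by rw [h0, map_zero]))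
    have hline : ap g (B i) ∈ Submodule.span F {B j} := by
      rw [← B.sum_repr (ap g (B i)), Finset.sum_eq_single j (fun k _ hkj => ?_)
        (fun h => absurd (Finset.mem_univ j) h)]
      · exact Submodule.smul_mem _ _ (Submodule.mem_span_singleton_self _)
      obtain ⟨l, hlk, hlj⟩ := hthird k j
      obtain ⟨e, he, hek, -, hej⟩ := hpair k l hlk.symm
      have hrep : ∀ m, B.repr (ap e (ap g (B i))) m =
          B.repr (ap g (B i)) m * (if m ∈ σ e then -1 else 1) := by
        intro m
        conv_lhs => rw [← B.sum_repr (ap g (B i))]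
        rw [map_sum, map_sum, Finsupp.finsetSum_apply, Finset.sum_eq_single m (fun m' _ hm' => ?_)
          (fun h => absurd (Finset.mem_univ m) h)]
        · rw [map_smul, map_smul, Finsupp.smul_apply, smul_eq_mul]
          split_ifs with hm
          · rw [(hσdef e m).1 hm, map_neg, B.repr_self, Finsupp.neg_apply, Finsupp.single_eq_same]
          · rw [hσ1 e he m hm, B.repr_self, Finsupp.single_eq_same]
        · rw [map_smul, map_smul, Finsupp.smul_apply]
          by_cases hm : m' ∈ σ e
          · rw [(hσdef e m').1 hm, map_neg, B.repr_self, Finsupp.neg_apply,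
              Finsupp.single_eq_of_ne hm'.symm, neg_zero, smul_zero]
          · rw [hσ1 e he m' hm, B.repr_self, Finsupp.single_eq_of_ne hm'.symm, smul_zero]
      have hk : k ∈ σ e := (hσdef e k).2 hek
      have hj' : j ∉ σ e := fun h => hpm j (by
        have := (hσdef e j).1 h
        rwa [hej j hkj.symm hlj.symm] at this)
      have hk' := hrep k
      have hjj := hrep j
      rw [if_pos hk] at hk'
      rw [if_neg hj', mul_one] at hjj
      rcases heig e he with h | h <;> rw [h] at hk' hjj
      · have : B.repr (ap g (B i)) k = 0 :=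
          (mul_eq_zero.1 (by linear_combination hk' :
            (2 : F) * B.repr (ap g (B i)) k = 0)).resolve_left h2
        rw [this, zero_smul]
      · rw [map_neg, Finsupp.neg_apply] at hjj
        exact absurd ((mul_eq_zero.1 (by linear_combination -hjj :
            (2 : F) * B.repr (ap g (B i)) j = 0)).resolve_left h2) hj
    refine ⟨j, fun v hv => ?_⟩
    obtain ⟨c, rfl⟩ := Submodule.mem_span_singleton.1 hv
    show (mat Q g) *ᵥ (c • B i) ∈ _
    rw [← ap_def, map_smul]
    exact Submodule.smul_mem _ _ hline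

end CfsgLib.SLFour
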