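import Cfsg.Agent.SLFour.Wedge
import Cfsg.Agent.SLFour.Frame
import Cfsg.Agent.AutPOmega.InvolutionReduce
import Cfsg.Agent.SpFourOdd.Extraspecial

/-!
# Symplectic type groups of order 64 in `GL₄` give frames of `Ω⁺₆`

Such a group lies in `SL₄`, and its image by congruence of alternating matrices is a group of 32
involutions, so the even sign changes of a frame; normalising the group is permuting the lines.
-/

set_option autoImplicit false
set_option linter.unusedSectionVars false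

namespace CfsgLib.SLFour

open Matrix Module Cfsg.Geo CfsgLib.StdForms
open scoped commutatorElement

/-- The general linear group of dimension four. -/
abbrev G₄ (K : Type*) [Field K] := GL (Fin 4) K

/-- The matrices of dimension four. -/
abbrev M₄ (K : Type*) := Matrix (Fin 4) (Fin 4) K

variable {F : Type*} [Field F] [Fintype F]


/-- The standing data: `R` absolutely irreducible, four central elements, exponent dividing four. -/
structure FourData {K : Type*} [Field K] (R : Subgroup (GL (Fin 4) K)) : Prop where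
  h2 : (2 : K) ≠ 0
  symp : IsSymplecticTypeGroup 2 R
  abs : ActsAbsolutelyIrreducibly (matrixSet R)
  cen : Nat.card (Subgroup.center R) = 4
  card : ∃ m : ℕ, Nat.card R = 2 ^ (2 + 2 * m)

namespace FourData

variable {R : Subgroup (G₄ F)} (T : FourData R)
include T

theorem scalar_of_comm {A : (M₄ F)} (h : ∀ y ∈ R, A * (y : (M₄ F)) = (y : (M₄ F)) * A) :
    ∃ c : F, A = c • (1 : (M₄ F)) :=
  T.abs.2 A (by rintro _ ⟨y, hy, rfl⟩; exact h y hy)

theorem finite : Finite R := by
  obtain ⟨m, hm⟩ := T.card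
  exact Nat.finite_of_card_ne_zero (by rw [hm]; positivity)

theorem pow_four {x : (G₄ F)} (hx : x ∈ R) : x ^ 4 = 1 := by
  have h := Monoid.pow_exponent_eq_one (⟨x, hx⟩ : R)
  rw [T.symp.exponent_eq] at h
  simpa using congrArg Subtype.val h

theorem smul_one_inj {a b : F} (h : a • (1 : (M₄ F)) = b • 1) : a = b := by
  simpa using congrFun (congrFun h 0) 0

theorem scalar_four {x : (G₄ F)} (hx : x ∈ R) {c : F} (hc : (x : (M₄ F)) = c • 1) : c ^ 4 = 1 := by
  refine smul_one_inj T ?_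
  have h := congrArg Units.val (T.pow_four hx)
  rwa [Units.val_pow_eq_pow_val, hc, smul_pow, one_pow, Units.val_one, ← one_smul F (1 : (M₄ F)),
    smul_smul, mul_one] at h

/-- A scalar `i` with square `-1`, and the four scalar elements of `R`. -/
theorem exists_i : ∃ i : F, i * i = -1 ∧
    ∀ c : F, c ^ 4 = 1 → ∃ z ∈ R, (z : (M₄ F)) = c • 1 := by
  classical
  haveI : Finite (Subgroup.center R) := Nat.finite_of_card_ne_zero (by rw [T.cen]; norm_num)
  haveI : Fintype (Subgroup.center R) := Fintype.ofFinite _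
  have hz : ∀ z : Subgroup.center R, ∃ c : F, (((z : R) : (G₄ F)) : (M₄ F)) = c • 1 := fun z =>
    T.scalar_of_comm fun y hy => by
      rw [← Units.val_mul, ← Units.val_mul]
      exact congrArg (fun w : R => ((w : (G₄ F)) : (M₄ F))) (Subgroup.mem_center_iff.1 z.2 ⟨y, hy⟩).symm
  choose c hc using hz
  have hinj : Function.Injective c := fun a b h =>
    Subtype.ext (Subtype.ext (Units.ext (by rw [hc, hc, h])))
  set Z : Finset F := Finset.univ.image c with hZ
  have hZ4 : Z.card = 4 := by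
    rw [hZ, Finset.card_image_of_injective _ hinj, Finset.card_univ, ← Nat.card_eq_fintype_card, T.cen]
  have hsub : ∀ a ∈ Z, a ^ 4 = 1 := by
    intro a ha
    obtain ⟨z, -, rfl⟩ := Finset.mem_image.1 ha
    exact T.scalar_four (z : R).2 (hc z)
  obtain ⟨i, hiZ, hi⟩ : ∃ i ∈ Z, i * i = -1 := by
    by_contra h
    push Not at h
    have hle : Z ⊆ {1, -1} := fun a ha => by
      have h0 : (a * a - 1) * (a * a + 1) = 0 := by linear_combination hsub a ha
      rcases mul_eq_zero.1 h0 with h1 | h1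
      · rw [Finset.mem_insert, Finset.mem_singleton]
        exact mul_self_eq_one_iff.1 (sub_eq_zero.1 h1)
      · exact absurd (eq_neg_of_add_eq_zero_left h1) (h a ha)
    have := (Finset.card_le_card hle).trans Finset.card_le_two
    omega
  refine ⟨i, hi, fun a ha => ?_⟩
  have hmem : a ∈ Z := by
    have hall : Z = {1, -1, i, -i} := by
      refine Finset.eq_of_subset_of_card_le (fun b hb => ?_) (le_trans Finset.card_le_four hZ4.ge)
      have h0 : (b * b - 1) * (b * b + 1) = 0 := by linear_combination hsub b hb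
      simp only [Finset.mem_insert, Finset.mem_singleton]
      rcases mul_eq_zero.1 h0 with h1 | h1
      · rcases mul_self_eq_one_iff.1 (sub_eq_zero.1 h1) with h | h <;> simp [h]
      · have h2' : (b - i) * (b + i) = 0 := by linear_combination h1 - hi
        rcases mul_eq_zero.1 h2' with h | h
        · simp [sub_eq_zero.1 h]
        · simp [eq_neg_of_add_eq_zero_left h]
    rw [hall]
    have h0 : (a * a - 1) * (a * a + 1) = 0 := by linear_combination ha
    simp only [Finset.mem_insert, Finset.mem_singleton]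
    rcases mul_eq_zero.1 h0 with h1 | h1
    · rcases mul_self_eq_one_iff.1 (sub_eq_zero.1 h1) with h | h <;> simp [h]
    · have h2' : (a - i) * (a + i) = 0 := by linear_combination h1 - hi
      rcases mul_eq_zero.1 h2' with h | h
      · simp [sub_eq_zero.1 h]
      · simp [eq_neg_of_add_eq_zero_left h]
  obtain ⟨z, -, hza⟩ := Finset.mem_image.1 hmem
  exact ⟨(z : R), (z : R).2, by rw [hc, hza]⟩

/-- Two elements of `R` commute or anticommute. -/
theorem sign {x y : (G₄ F)} (hx : x ∈ R) (hy : y ∈ R) :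
    (x : (M₄ F)) * (y : (M₄ F)) = (y : (M₄ F)) * (x : (M₄ F)) ∨
      (x : (M₄ F)) * (y : (M₄ F)) = -((y : (M₄ F)) * (x : (M₄ F))) := by
  haveI := T.finite
  have h4 : ∀ w : R, w ^ 4 = 1 := fun w => Subtype.ext (by simpa using T.pow_four w.2)
  have hcc := CfsgLib.SpFourOdd.commute_commutator T.symp.pGroup T.symp.cyclic_of_characteristic h4 ⟨x, hx⟩ ⟨y, hy⟩
  obtain ⟨c, hcs⟩ := T.scalar_of_comm (A := ((⁅x, y⁆ : (G₄ F)) : (M₄ F))) fun z hz => by
    have h := congrArg (fun w : R => ((w : (G₄ F)) : (M₄ F))) (hcc ⟨z, hz⟩).eq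
    simpa [commutatorElement_def] using h
  have hcR : ⁅x, y⁆ ∈ R := by
    rw [commutatorElement_def]
    exact R.mul_mem (R.mul_mem (R.mul_mem hx hy) (R.inv_mem hx)) (R.inv_mem hy)
  have hc4 := T.scalar_four hcR hcs
  have hc0 : c ≠ 0 := fun h => by rw [h] at hc4; norm_num at hc4
  obtain ⟨X, hX⟩ : ∃ X : (M₄ F), X = (x : (M₄ F)) := ⟨_, rfl⟩
  obtain ⟨Y, hY⟩ : ∃ Y : (M₄ F), Y = (y : (M₄ F)) := ⟨_, rfl⟩
  have hxy : X * Y = c • (Y * X) := by
    have e : x * y = ⁅x, y⁆ * (y * x) := by rw [commutatorElement_def]; group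
    rw [hX, hY, ← Units.val_mul, e, Units.val_mul, hcs, Units.val_mul, Matrix.smul_mul, one_mul]
  have hyx : Y * X = c⁻¹ • (X * Y) := by rw [hxy, inv_smul_smul₀ hc0]
  have hX4 : X * X * (X * X) = 1 := by
    rw [hX, ← Units.val_mul, ← Units.val_mul, show x * x * (x * x) = x ^ 4 by simp [pow_succ, mul_assoc], T.pow_four hx,
      Units.val_one]
  have hY4 : Y * Y * (Y * Y) = 1 := by
    rw [hY, ← Units.val_mul, ← Units.val_mul, show y * y * (y * y) = y ^ 4 by simp [pow_succ, mul_assoc], T.pow_four hy,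
      Units.val_one]
  have hP4 : X * Y * (X * Y) * (X * Y * (X * Y)) = 1 := by
    rw [hX, hY]
    simp only [← Units.val_mul]
    rw [show x * y * (x * y) * (x * y * (x * y)) = (x * y) ^ 4 by simp [pow_succ, mul_assoc], T.pow_four (R.mul_mem hx hy),
      Units.val_one]
  have h1 : X * Y * (X * Y) = c⁻¹ • (X * X * (Y * Y)) := by
    rw [show X * Y * (X * Y) = X * (Y * X) * Y by noncomm_ring, hyx, Matrix.mul_smul, Matrix.smul_mul]
    congr 1
    noncomm_ring
  have hy2x : Y * Y * X = (c⁻¹ * c⁻¹) • (X * (Y * Y)) := by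
    rw [mul_assoc, hyx, Matrix.mul_smul, ← mul_assoc, hyx, Matrix.smul_mul, smul_smul, mul_assoc]
  have h2' : Y * Y * (X * X) = (c⁻¹ * c⁻¹ * (c⁻¹ * c⁻¹)) • (X * X * (Y * Y)) := by
    rw [← mul_assoc, hy2x, Matrix.smul_mul, mul_assoc, hy2x, Matrix.mul_smul, smul_smul, ← mul_assoc, ← mul_assoc]
  have h3 : (1 : (M₄ F)) = (c⁻¹ ^ 6) • (1 : (M₄ F)) := by
    conv_lhs => rw [← hP4, h1, Matrix.smul_mul, Matrix.mul_smul, smul_smul,
      show X * X * (Y * Y) * (X * X * (Y * Y)) = X * X * (Y * Y * (X * X)) * (Y * Y) by noncomm_ring,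
      h2', Matrix.mul_smul, Matrix.smul_mul, smul_smul,
      show X * X * (X * X * (Y * Y)) * (Y * Y) = X * X * (X * X) * (Y * Y * (Y * Y)) by noncomm_ring,
      hX4, hY4, one_mul]
    congr 1
    ring
  have h6 : c⁻¹ ^ 6 = 1 := smul_one_inj T (by rw [← h3, one_smul])
  rw [inv_pow, inv_eq_one] at h6
  have h2c : c * c = 1 := by linear_combination h6 - c ^ 2 * hc4
  rcases mul_self_eq_one_iff.1 h2c with rfl | rfl
  · exact Or.inl (by rw [← hX, ← hY, hxy, one_smul])
  · exact Or.inr (by rw [← hX, ← hY, hxy, neg_smul, one_smul])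

theorem sq_sign {x : (G₄ F)} (hx : x ∈ R) :
    (x : (M₄ F)) * (x : (M₄ F)) = 1 ∨ (x : (M₄ F)) * (x : (M₄ F)) = -1 := by
  obtain ⟨c, hc⟩ := T.scalar_of_comm (A := (x : (M₄ F)) * (x : (M₄ F))) fun y hy => by
    rcases T.sign hx hy with h | h
    · rw [mul_assoc, h, ← mul_assoc, h, mul_assoc]
    · rw [mul_assoc, h, mul_neg, ← mul_assoc, h, neg_mul, neg_neg, mul_assoc]
  have h1 : c * c = 1 := by
    refine smul_one_inj T ?_
    have h := congrArg Units.val (T.pow_four hx)
    rw [show x ^ 4 = x * x * (x * x) by simp [pow_succ, mul_assoc], Units.val_mul, Units.val_mul, hc, Matrix.smul_mul,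
      one_mul, smul_smul, Units.val_one] at h
    rw [h, one_smul]
  rcases mul_self_eq_one_iff.1 h1 with rfl | rfl
  · exact Or.inl (by rw [hc, one_smul])
  · exact Or.inr (by rw [hc, neg_smul, one_smul])

theorem exists_anti {x : (G₄ F)} (hx : x ∈ R) (hns : ∀ c : F, (x : (M₄ F)) ≠ c • 1) :
    ∃ y ∈ R, (x : (M₄ F)) * (y : (M₄ F)) = -((y : (M₄ F)) * (x : (M₄ F))) := by
  obtain ⟨y, hy, hxy⟩ : ∃ y ∈ R, (x : (M₄ F)) * (y : (M₄ F)) ≠ (y : (M₄ F)) * (x : (M₄ F)) := by
    by_contra! hall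
    obtain ⟨c, hc⟩ := T.scalar_of_comm hall
    exact hns c hc
  exact ⟨y, hy, (T.sign hx hy).resolve_left hxy⟩

/-- `R` lies in `SL₄`. -/
theorem le_special : R ≤ specialLinear (Fin 4) F := by
  intro x hx
  show Matrix.GeneralLinearGroup.det x = 1
  refine Units.ext ?_
  rw [Matrix.GeneralLinearGroup.val_det_apply, Units.val_one]
  by_cases hns : ∀ c : F, (x : (M₄ F)) ≠ c • 1
  swap
  · push Not at hns
    obtain ⟨c, hc⟩ := hns
    rw [hc, Matrix.det_smul, Matrix.det_one, mul_one, Fintype.card_fin]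
    exact T.scalar_four hx hc
  obtain ⟨i, hi, -⟩ := T.exists_i
  obtain ⟨y, -, hxy⟩ := T.exists_anti hx hns
  obtain ⟨s, hs4, hs⟩ : ∃ s : F, s ^ 4 = 1 ∧
      (s • (x : (M₄ F))) * (s • (x : (M₄ F))) = 1 := by
    rcases T.sq_sign hx with h | h
    · exact ⟨1, one_pow _, by rw [one_smul, h]⟩
    · exact ⟨i, by linear_combination (i * i - 1) * hi,
        by rw [Matrix.smul_mul, Matrix.mul_smul, smul_smul, h, hi, neg_smul, one_smul, neg_neg]⟩
  set A := Matrix.toLin' (s • (x : (M₄ F))) with hA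
  have hAA : ∀ v, A (A v) = v := fun v => by
    rw [hA, toLin'_apply, toLin'_apply, mulVec_mulVec, hs, one_mulVec]
  have hanti : ∀ v, A ((y : (M₄ F)) *ᵥ v) = -((y : (M₄ F)) *ᵥ A v) := fun v => by
    rw [hA, toLin'_apply, toLin'_apply, mulVec_mulVec, mulVec_mulVec, Matrix.smul_mul, hxy,
      Matrix.mul_smul, smul_neg, neg_mulVec]
  obtain ⟨hdet, hdim⟩ := AutPOmega.det_of_involution T.h2 A hAA
  set P := LinearMap.ker (A - LinearMap.id)
  set N := LinearMap.ker (A + LinearMap.id)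
  have hP : ∀ {v}, v ∈ P ↔ A v = v := fun {v} => by simp [P, sub_eq_zero]
  have hN : ∀ {v}, v ∈ N ↔ A v = -v := fun {v} => by simp [N, add_eq_zero_iff_eq_neg]
  have hyinj : Function.Injective (Matrix.toLin' (y : (M₄ F))) :=
    mulVec_injective_iff_isUnit.mpr y.isUnit
  have hPN : finrank F P ≤ finrank F N := by
    rw [(Submodule.equivMapOfInjective _ hyinj P).finrank_eq]
    refine Submodule.finrank_mono ?_
    rintro _ ⟨v, hv, rfl⟩
    rw [toLin'_apply, hN, hanti, hP.1 hv]
  have hNP : finrank F N ≤ finrank F P := by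
    rw [(Submodule.equivMapOfInjective _ hyinj N).finrank_eq]
    refine Submodule.finrank_mono ?_
    rintro _ ⟨v, hv, rfl⟩
    rw [toLin'_apply, hP, hanti, hN.1 hv, mulVec_neg, neg_neg]
  rw [finrank_fintype_fun_eq_card, Fintype.card_fin] at hdim
  rw [hA, LinearMap.det_toLin', Matrix.det_smul, Fintype.card_fin, hs4, one_mul,
    show finrank F N = 2 by omega] at hdet
  rw [hdet, neg_one_sq]

/-- `R` has at least 64 elements. -/
theorem card_ge : 64 ≤ Nat.card R := by
  classical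
  haveI := T.finite
  haveI : Fintype R := Fintype.ofFinite _
  obtain ⟨m, hm⟩ := T.card
  rcases le_or_gt 2 m with h | h
  · rw [hm]
    calc (64 : ℕ) = 2 ^ (2 + 2 * 2) := by norm_num
      _ ≤ 2 ^ (2 + 2 * m) := Nat.pow_le_pow_right (by norm_num) (by omega)
  exfalso
  have hle : Nat.card R ≤ 16 := by
    rw [hm]
    calc 2 ^ (2 + 2 * m) ≤ 2 ^ (2 + 2 * 1) := Nat.pow_le_pow_right (by norm_num) (by omega)
      _ = 16 := by norm_num
  obtain ⟨i, hi, hscal⟩ := T.exists_i
  -- a non-scalar element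
  obtain ⟨x, hx, hxns⟩ : ∃ x ∈ R, ∀ c : F, (x : (M₄ F)) ≠ c • 1 := by
    by_contra hcon
    push Not at hcon
    rcases T.abs.1 (Submodule.span F {Pi.single 0 1}) (by
      rintro _ ⟨w, hw, rfl⟩ _ ⟨v, hv, rfl⟩
      obtain ⟨c, hc⟩ := hcon w hw
      rw [toLin'_apply]
      show (w : M₄ F) *ᵥ v ∈ _
      rw [hc, smul_mulVec, one_mulVec]
      exact Submodule.smul_mem _ c hv) with h0 | h0
    · rw [Submodule.span_singleton_eq_bot] at h0
      simpa using congrFun h0 0
    · have := congrArg (fun W : Submodule F (Fin 4 → F) => finrank F W) h0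
      rw [finrank_span_singleton (fun e => by simpa using congrFun e 0), finrank_top,
        finrank_fintype_fun_eq_card, Fintype.card_fin] at this
      omega
  obtain ⟨y, hy, hxy⟩ := T.exists_anti hx hxns
  have hne : ∀ {A : (M₄ F)}, IsUnit A → A ≠ -A := fun {A} hA h => by
    have h0 : (2 : F) • A = 0 := by rw [two_smul]; exact eq_neg_iff_add_eq_zero.1 h
    rcases smul_eq_zero.1 h0 with h | h
    · exact T.h2 h
    · exact hA.ne_zero h
  -- the sixteen elements
  let a : Fin 4 → (G₄ F) := ![1, x, y, x * y]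
  have ha : ∀ k, a k ∈ R := by
    intro k
    fin_cases k
    · exact R.one_mem
    · exact hx
    · exact hy
    · exact R.mul_mem hx hy
  have hax : ∀ k, (x : (M₄ F)) * (a k : (M₄ F)) =
      (![1, 1, -1, -1] : Fin 4 → F) k • ((a k : (M₄ F)) * (x : (M₄ F))) := by
    intro k
    fin_cases k
    · simp [a]
    · simp [a]
    · simp [a, hxy]
    · show (x : (M₄ F)) * ((x * y : (G₄ F)) : (M₄ F)) = (-1 : F) • (((x * y : (G₄ F)) : (M₄ F)) * (x : (M₄ F)))
      rw [Units.val_mul, mul_assoc, hxy]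
      simp [mul_assoc, hxy]
  have hay : ∀ k, (y : (M₄ F)) * (a k : (M₄ F)) =
      (![1, -1, 1, -1] : Fin 4 → F) k • ((a k : (M₄ F)) * (y : (M₄ F))) := by
    intro k
    fin_cases k
    · simp [a]
    · simp [a, hxy]
    · simp [a]
    · show (y : (M₄ F)) * ((x * y : (G₄ F)) : (M₄ F)) = (-1 : F) • (((x * y : (G₄ F)) : (M₄ F)) * (y : (M₄ F)))
      rw [Units.val_mul, ← mul_assoc, neg_one_smul, hxy, neg_mul, neg_neg]
  let Z : Fin 4 → F := ![1, -1, i, -i]
  have hZ4 : ∀ k, Z k ^ 4 = 1 := by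
    intro k
    fin_cases k
    · simp [Z]
    · simp [Z]; norm_num
    · show i ^ 4 = 1; linear_combination (i * i - 1) * hi
    · show (-i) ^ 4 = 1; linear_combination (i * i - 1) * hi
  choose z hzR hz using fun k => hscal (Z k) (hZ4 k)
  have hi0 : i ≠ 0 := fun e => by simp [e] at hi
  have hi1 : i ≠ 1 := fun e => T.h2 (by rw [e] at hi; linear_combination hi)
  have hi2 : i ≠ -1 := fun e => T.h2 (by rw [e] at hi; linear_combination hi)
  have hZinj : Function.Injective Z := by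
    intro k l h
    have hii : i ≠ -i := fun e => hi0 ((mul_eq_zero.1
      (by linear_combination e : (2 : F) * i = 0)).resolve_left T.h2)
    have h11 : (1 : F) ≠ -1 := fun e => T.h2 (by linear_combination e)
    have h3 : -i ≠ 1 := fun e => hi2 (by linear_combination -e)
    have h4 : -i ≠ -1 := fun e => hi1 (by linear_combination -e)
    fin_cases k <;> fin_cases l <;> simp [Z, hii, hii.symm, h11, h11.symm, hi1, hi1.symm, hi2,
      hi2.symm, h3, h3.symm, h4, h4.symm] at h ⊢
  let Φ : Fin 4 × Fin 4 → R := fun p => ⟨a p.1 * z p.2, R.mul_mem (ha _) (hzR _)⟩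
  have hΦmat : ∀ p, ((Φ p : (G₄ F)) : (M₄ F)) = Z p.2 • (a p.1 : (M₄ F)) := fun p => by
    show ((a p.1 * z p.2 : (G₄ F)) : (M₄ F)) = _
    rw [Units.val_mul, hz, Matrix.mul_smul, mul_one]
  have hZ0 : ∀ k, Z k ≠ 0 := fun k e => by simpa [e] using hZ4 k
  have hΦ : Function.Injective Φ := by
    rintro ⟨k, u⟩ ⟨l, v⟩ h
    have h' := congrArg (fun w : R => ((w : (G₄ F)) : (M₄ F))) h
    simp only [hΦmat] at h'
    have hkl : ∀ (b : (G₄ F)) (S : Fin 4 → F), (∀ j, (b : (M₄ F)) * (a j : (M₄ F)) = S j • ((a j : (M₄ F)) * (b : (M₄ F)))) →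
        S k = S l := by
      intro b S hS
      have e := congrArg (fun M : (M₄ F) => (b : (M₄ F)) * M) h'
      simp only [Matrix.mul_smul, hS, smul_smul] at e
      rw [mul_comm (Z u), mul_comm (Z v), ← smul_smul, ← smul_smul, ← Matrix.smul_mul,
        ← Matrix.smul_mul, ← Matrix.smul_mul, ← Matrix.smul_mul, h', ← sub_eq_zero, ← sub_mul,
        ← sub_smul] at e
      have hu : Z v • ((a l : M₄ F) * (b : M₄ F)) ≠ 0 :=
        smul_ne_zero (hZ0 v) ((a l) * b).isUnit.ne_zero
      rw [Matrix.smul_mul] at e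
      exact sub_eq_zero.1 ((smul_eq_zero.1 e).resolve_right (by rwa [Matrix.smul_mul]))
    have e1 := hkl x _ hax
    have e2 := hkl y _ hay
    have h11 : (1 : F) ≠ -1 := fun e => T.h2 (by linear_combination e)
    have hkl' : k = l := by
      fin_cases k <;> fin_cases l <;> simp [h11, h11.symm] at e1 e2 ⊢
    subst hkl'
    congr 1
    refine hZinj ?_
    rw [← sub_eq_zero, ← sub_smul] at h'
    exact sub_eq_zero.1 ((smul_eq_zero.1 h').resolve_right (a k).isUnit.ne_zero)
  have hΦs : Function.Surjective Φ :=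
    (hΦ.bijective_of_nat_card_le (by simpa using hle)).2
  -- an invariant plane
  obtain ⟨v, hv0, l, hl⟩ : ∃ v : Fin 4 → F, v ≠ 0 ∧ ∃ l : F, (x : (M₄ F)) *ᵥ v = l • v := by
    obtain ⟨s, hs⟩ : ∃ s : F, (x : (M₄ F)) * (x : (M₄ F)) = (s * s) • (1 : (M₄ F)) := by
      rcases T.sq_sign hx with h | h
      · exact ⟨1, by rw [h, mul_one, one_smul]⟩
      · exact ⟨i, by rw [h, hi, neg_smul, one_smul]⟩
    by_cases hw : (x : (M₄ F)) *ᵥ Pi.single 0 1 + s • Pi.single 0 1 = 0
    · exact ⟨Pi.single 0 1, fun e => by simpa using congrFun e 0, -s, by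
        rw [eq_neg_of_add_eq_zero_left hw, neg_smul]⟩
    · refine ⟨_, hw, s, ?_⟩
      rw [mulVec_add, mulVec_mulVec, hs, smul_mulVec, one_mulVec, mulVec_smul, smul_add, smul_smul,
        add_comm]
  set W := Submodule.span F (Set.range ![v, (y : (M₄ F)) *ᵥ v]) with hW
  have hv : v ∈ W := Submodule.subset_span ⟨0, rfl⟩
  have hyv : (y : (M₄ F)) *ᵥ v ∈ W := Submodule.subset_span ⟨1, rfl⟩
  have hxW : ∀ u ∈ W, (x : (M₄ F)) *ᵥ u ∈ W := by
    intro u hu
    rw [hW, Submodule.mem_span_range_iff_exists_fun] at hu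
    obtain ⟨c, rfl⟩ := hu
    simp only [Fin.sum_univ_two, Matrix.cons_val_zero, Matrix.cons_val_one, mulVec_add, mulVec_smul,
      hl, mulVec_mulVec, hxy, neg_mulVec]
    rw [← mulVec_mulVec, hl, mulVec_smul]
    exact W.add_mem (W.smul_mem _ (W.smul_mem _ hv))
      (W.smul_mem _ (W.neg_mem (W.smul_mem _ hyv)))
  have hyW : ∀ u ∈ W, (y : (M₄ F)) *ᵥ u ∈ W := by
    intro u hu
    rw [hW, Submodule.mem_span_range_iff_exists_fun] at hu
    obtain ⟨c, rfl⟩ := hu
    simp only [Fin.sum_univ_two, Matrix.cons_val_zero, Matrix.cons_val_one, mulVec_add, mulVec_smul,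
      mulVec_mulVec]
    refine W.add_mem (W.smul_mem _ hyv) (W.smul_mem _ ?_)
    rcases T.sq_sign hy with h | h <;> rw [h]
    · rwa [one_mulVec]
    · rw [neg_mulVec, one_mulVec]; exact W.neg_mem hv
  rcases T.abs.1 W (by
    rintro _ ⟨w, hw, rfl⟩ _ ⟨u, hu, rfl⟩
    obtain ⟨⟨k, j⟩, hkj⟩ := hΦs ⟨w, hw⟩
    rw [toLin'_apply]
    show (w : M₄ F) *ᵥ u ∈ W
    rw [← show ((Φ (k, j) : (G₄ F)) : (M₄ F)) = (w : (M₄ F)) by rw [hkj], hΦmat, smul_mulVec]
    refine W.smul_mem _ ?_
    fin_cases k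
    · simpa [a] using hu
    · simpa [a] using hxW u hu
    · simpa [a] using hyW u hu
    · show ((x * y : (G₄ F)) : (M₄ F)) *ᵥ u ∈ W
      rw [Units.val_mul, ← mulVec_mulVec]
      exact hxW _ (hyW u hu)) with h0 | h0
  · exact hv0 ((Submodule.mem_bot F).1 (h0 ▸ hv))
  · have h1 := finrank_range_le_card (R := F) ![v, (y : (M₄ F)) *ᵥ v]
    rw [Set.finrank, ← hW, h0, finrank_top, finrank_fintype_fun_eq_card] at h1
    simp at h1

end FourData

/-- The frame of a symplectic type group of order 64, and what its normaliser becomes in `Ω⁺₆`. -/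
theorem exists_frame_of_symplecticType {R : Subgroup (G₄ F)} (T : FourData R) :
    ∃ (ψ : ↥(specialLinear (Fin 4) F) →* GL (Fin 3 ⊕ Fin 3) F)
      (D : Fin 6 → Submodule F (Fin 3 ⊕ Fin 3 → F)),
      OrthMax.DSys (plusQ 3 F) 1 D ∧ ψ.range = omegaGL ⇑(plusQ 3 F) ∧
      ∀ g : ↥(specialLinear (Fin 4) F),
        (g : (G₄ F)) ∈ subgroupNormalizer R ↔ ψ g ∈ decompositionStabilizer D := by
  classical
  haveI := T.finite
  obtain ⟨φ, hrange, hker⟩ := exists_wedge (F := F) T.h2
  obtain ⟨i, hi, hscal⟩ := T.exists_i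
  set R' := R.subgroupOf (specialLinear (Fin 4) F) with hR'
  set E := R'.map φ with hE
  have hkerR : ∀ g, φ g = 1 → (g : (G₄ F)) ∈ R := fun g hg => by
    obtain ⟨c, hc, hgc⟩ := (hker g).1 hg
    obtain ⟨z, hz, hzc⟩ := hscal c (by linear_combination (c * c + 1) * hc)
    rwa [show (g : (G₄ F)) = z from Units.ext (by rw [hgc, hzc])]
  have hmemE : ∀ g, φ g ∈ E ↔ (g : (G₄ F)) ∈ R := by
    refine fun g => ⟨fun h => ?_, fun h => ⟨g, h, rfl⟩⟩
    obtain ⟨r, hr, hrg⟩ := h
    have h1 := hkerR (r⁻¹ * g) (by rw [map_mul, map_inv, hrg, inv_mul_cancel])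
    have := R.mul_mem (show (r : (G₄ F)) ∈ R from hr) h1
    simpa using this
  have hsq : ∀ e ∈ E, e * e = 1 := by
    rintro _ ⟨r, hr, rfl⟩
    rw [← map_mul]
    refine (hker _).2 ?_
    rcases T.sq_sign (x := (r : (G₄ F))) hr with h | h
    · exact ⟨1, one_mul 1, by rw [one_smul]; simpa using h⟩
    · exact ⟨-1, by ring, by rw [neg_smul, one_smul]; simpa using h⟩
  have hΩ : ∀ e ∈ E, e ∈ Cfsg.Omega F ⇑(plusQ 3 F) := fun e he => by
    rw [← hrange]
    obtain ⟨r, -, rfl⟩ := he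
    exact ⟨r, rfl⟩
  have hcard : 32 ≤ Nat.card E := by
    let χ : R' →* E := φ.subgroupMap R'
    have hχ : Function.Surjective χ := φ.subgroupMap_surjective R'
    have hk : Nat.card χ.ker ≤ 2 := by
      refine le_trans (Nat.card_le_card_of_injective (β := ({1, -1} : Set F))
        (fun r => ⟨((r.1.1 : (G₄ F)) : (M₄ F)) 0 0, ?_⟩) ?_) ?_
      · obtain ⟨c, hc, hgc⟩ := (hker r.1.1).1 (congrArg Subtype.val r.2)
        rw [hgc]
        simpa using mul_self_eq_one_iff.1 hc
      · intro r r' h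
        obtain ⟨c, -, hgc⟩ := (hker r.1.1).1 (congrArg Subtype.val r.2)
        obtain ⟨c', -, hgc'⟩ := (hker r'.1.1).1 (congrArg Subtype.val r'.2)
        have h' := congrArg Subtype.val h
        simp only [hgc, hgc'] at h'
        simp at h'
        exact Subtype.ext (Subtype.ext (Subtype.ext (Units.ext (by rw [hgc, hgc', h']))))
      · rw [Nat.card_coe_set_eq]
        exact le_trans (Set.ncard_insert_le _ _) (by simp)
    have h1 := χ.ker.card_eq_card_quotient_mul_card_subgroup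
    rw [Nat.card_congr (QuotientGroup.quotientKerEquivOfSurjective χ hχ).toEquiv,
      Nat.card_congr (Subgroup.subgroupOfEquivOfLe T.le_special).toEquiv] at h1
    have h2 := T.card_ge
    nlinarith
  obtain ⟨D, hD, hiff⟩ := exists_frame_of_involutions (plusQ_nondegenerate 3) T.h2 (by simp) hsq hΩ hcard
  refine ⟨(Subgroup.subtype _).comp φ, D, hD, ?_, fun g => ?_⟩
  · rw [MonoidHom.range_comp, hrange]
    rfl
  show (g : (G₄ F)) ∈ Subgroup.normalizer (R : Set (G₄ F)) ↔
    ((φ g : ↥(Cfsg.isometryGroup F ⇑(plusQ 3 F))) : GL (Fin 3 ⊕ Fin 3) F) ∈ _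
  rw [hiff]
  constructor
  · rintro hg _ ⟨r, hr, rfl⟩
    rw [← map_inv, ← map_mul, ← map_mul, hmemE]
    simpa using (Subgroup.mem_normalizer_iff.1 hg (r : (G₄ F))).1 hr
  · intro h
    set c := (MulAut.conj (g : (G₄ F))).toMonoidHom with hc
    have hle : R.map c ≤ R := by
      rintro _ ⟨x, hx, rfl⟩
      have h1 := h (φ ⟨x, T.le_special hx⟩) ((hmemE _).2 hx)
      rw [← map_inv, ← map_mul, ← map_mul, hmemE] at h1
      simpa [hc] using h1
    have heq : R.map c = R := Subgroup.eq_of_le_of_card_ge hle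
      (le_of_eq (Nat.card_congr (R.equivMapOfInjective c (MulAut.conj (g : (G₄ F))).injective).toEquiv))
    refine Subgroup.mem_normalizer_iff.2 fun x => ⟨fun hx => ?_, fun hx => ?_⟩
    · rw [← heq]; exact ⟨x, hx, by simp [hc]⟩
    · rw [← heq] at hx
      obtain ⟨y, hy, hye⟩ := hx
      simp [hc] at hye
      rwa [← hye]

end CfsgLib.SLFour
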