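import Cfsg.Agent.Forms4.OmegaSixPlus
import Cfsg.Agent.MaxSub.Transvection

/-!
# `SL₄` onto `Ω⁺₆` by congruence of alternating matrices

The homomorphism behind `Forms4.nonempty_pOmega_six_plus_equiv`, with its range and kernel, on the
subgroup `specialLinear` of `GL₄`, and transfer of maximality along it.
-/

set_option autoImplicit false
set_option linter.unusedSectionVars false

namespace CfsgLib.SLFour

open Matrix Cfsg.Geo CfsgLib.StdForms CfsgLib.Forms4

variable {F : Type*} [Field F]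

local notation "G" => GL (Fin 4) F
local notation "ι₆" => (Fin 3 ⊕ Fin 3)

/-- The determinant-one elements of `GL₄` as elements of `SL₄`. -/
def toSL : ↥(specialLinear (Fin 4) F) →* Matrix.SpecialLinearGroup (Fin 4) F where
  toFun g := ⟨((g : G) : Matrix (Fin 4) (Fin 4) F), by
    have h : Matrix.GeneralLinearGroup.det (g : G) = 1 := g.2
    simpa using congrArg Units.val h⟩
  map_one' := Subtype.ext rfl
  map_mul' _ _ := Subtype.ext rfl

theorem toSL_surjective : Function.Surjective (toSL (F := F)) := fun A => by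
  obtain ⟨u, hu⟩ : ∃ u : G, (u : Matrix (Fin 4) (Fin 4) F) = A.1 :=
    (Matrix.isUnit_iff_isUnit_det A.1).2 (by rw [A.2]; exact isUnit_one)
  refine ⟨⟨u, show Matrix.GeneralLinearGroup.det u = 1 from ?_⟩, Subtype.ext hu⟩
  exact Units.ext (by simp [hu, A.2])

variable [Fintype F]

/-- `SL₄` modulo `±1` is `Ω⁺₆` in odd characteristic. -/
theorem exists_wedge (h2 : (2 : F) ≠ 0) :
    ∃ φ : ↥(specialLinear (Fin 4) F) →* ↥(Cfsg.isometryGroup F ⇑(plusQ 3 F)),
      φ.range = Cfsg.Omega F ⇑(plusQ 3 F) ∧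
      ∀ g, φ g = 1 ↔ ∃ c : F, c * c = 1 ∧ ((g : G) : Matrix (Fin 4) (Fin 4) F) = c • 1 := by
  classical
  obtain ⟨φ, -, hφ⟩ := exists_isoHom ⇑(plusQ 3 F) (altMat F) (altCoord F) altCoord_altMat
    (congrHom F) altMat_congr (fun g x => by rw [coe_plusQ]; exact pfaffian_congr g x)
  have hmem : ∀ g, φ g = 1 ↔ ∃ c : F, c * c = 1 ∧ g.1 = c • (1 : Matrix (Fin 4) (Fin 4) F) := by
    intro g
    rw [hφ]
    refine ⟨fun h => ⟨g.1 0 0, (scalar_of_congr_fix h).1, ?_⟩, fun ⟨c, hc, hs⟩ x => ?_⟩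
    · rw [smul_one_eq_diagonal]
      exact (scalar_of_congr_fix h).2.symm
    · show g.1 * (altMat F x * g.1ᵀ) = altMat F x
      rw [hs, Matrix.transpose_smul, Matrix.transpose_one, Matrix.mul_smul, mul_one, Matrix.smul_mul,
        one_mul, smul_smul, hc, one_smul]
  let e : φ.ker ≃ ({1, -1} : Set F) :=
    { toFun := fun g => ⟨g.1.1 0 0, by
        obtain ⟨c, hc, hs⟩ := (hmem g.1).1 g.2
        rw [hs]; simpa using mul_self_eq_one_iff.1 hc⟩
      invFun := fun r => ⟨⟨r.1 • 1, by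
          rcases r.2 with h | (h : r.1 = -1) <;>
            simp [h, Matrix.det_neg, Even.neg_one_pow (show Even 4 by decide)]⟩,
        (hmem _).2 ⟨r.1, by rcases r.2 with h | (h : r.1 = -1) <;> simp [h], rfl⟩⟩
      left_inv := fun g => by
        obtain ⟨c, -, hs⟩ := (hmem g.1).1 g.2
        exact Subtype.ext (Subtype.ext (by simp [hs]))
      right_inv := fun r => Subtype.ext (by simp) }
  have hker : Nat.card φ.ker = 2 := by
    rw [Nat.card_congr e, Nat.card_coe_set_eq]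
    exact Set.ncard_pair fun h => h2 (by linear_combination h)
  have hrange : φ.range = Cfsg.Omega F ⇑(plusQ 3 F) := by
    refine range_eq_of_card φ
      (range_le_commutator φ (CfsgLib.Linear.commutator_SL_eq_top (by simp))) ?_
    have hO := (Cfsg.Omega F ⇑(plusQ 3 F)).index_mul_card
    rw [CfsgLib.Forms.index_omega_odd h2 (plusQ_nondegenerate 3) (by simp), coe_plusQ,
      card_isometryGroup_quadFormPlus rfl 3 (by norm_num)] at hO
    simp [-Nat.card_eq_fintype_card, Finset.prod_range_succ] at hO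
    rw [hker, card_SL_four, coe_plusQ]
    linarith
  refine ⟨φ.comp toSL, ?_, fun g => hmem (toSL g)⟩
  rw [MonoidHom.range_comp, MonoidHom.range_eq_top.2 toSL_surjective, ← MonoidHom.range_eq_map, hrange]

/-- Maximality in the image of a homomorphism lifts to the preimage. -/
theorem isMaximalIn_of_hom {A B : Type*} [Group A] [Group B] {K : Subgroup A} (ψ : ↥K →* B)
    {K' : Subgroup B} (hrange : ψ.range = K') {H : Subgroup A} {T : Subgroup B}
    (hH : ∀ g : ↥K, (g : A) ∈ H ↔ ψ g ∈ T) (hmax : IsMaximalIn K' (T ⊓ K')) :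
    IsMaximalIn K (H ⊓ K) := by
  refine CfsgLib.MaxSub.isMaximalIn_of inf_le_right ?_ fun M hHM hMK g hg hg' => ?_
  · obtain ⟨x, hx, hxT⟩ := SetLike.exists_of_lt hmax.1
    obtain ⟨g, rfl⟩ := hrange ▸ hx
    exact ⟨g, g.2, fun h => hxT ⟨(hH g).1 h.1, hrange ▸ ⟨g, rfl⟩⟩⟩
  · let M' : Subgroup B := (M.subgroupOf K).map ψ
    have hle : M' ≤ K' := hrange ▸ Subgroup.map_le_range _ _
    have hge : T ⊓ K' ≤ M' := fun x hx => by
      obtain ⟨h, rfl⟩ := hrange ▸ hx.2
      exact ⟨h, hHM ⟨(hH h).2 hx.1, h.2⟩, rfl⟩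
    rcases hmax.2 M' hge hle with h | h
    · exfalso
      have h1 : ψ ⟨g, hMK hg⟩ ∈ M' := ⟨⟨g, hMK hg⟩, hg, rfl⟩
      rw [h] at h1
      exact hg' ⟨(hH ⟨g, hMK hg⟩).2 h1.1, hMK hg⟩
    · intro x hx
      have h1 : ψ ⟨x, hx⟩ ∈ M' := by rw [h, ← hrange]; exact ⟨⟨x, hx⟩, rfl⟩
      obtain ⟨m, hm, he⟩ := h1
      obtain ⟨k, hk'⟩ : ∃ k : ↥K, k = ⟨x, hx⟩ * m⁻¹ := ⟨_, rfl⟩
      have hk : ψ k = 1 := by rw [hk', map_mul, map_inv, he, mul_inv_cancel]
      have hkM : (k : A) ∈ M := hHM ⟨(hH k).2 (by rw [hk]; exact T.one_mem), k.2⟩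
      have hmM : (m : A) ∈ M := hm
      have hx' : x = (k : A) * (m : A) := by rw [hk']; simp
      rw [hx']
      exact M.mul_mem hkM hmM

end CfsgLib.SLFour
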